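import Cfsg.Prelude.Def_Local
import Cfsg.Agent.Lib.Coprime.Action
import Cfsg.Agent.Lib.Coprime.Core
import Cfsg.Agent.Lib.Coprime.Solvable
import Cfsg.Agent.Lib.Qd.Unstable
import Cfsg.Agent.Lib.Qd.SLTwo
import Cfsg.Agent.Lib.Fusion.StableFree
import Cfsg.Agent.Lib.PGroup.MaxPNilpotent

/-!
# Conjugates that commute inside every `p`-subgroup

The setting of the elementary proof that a finite group is solvable as soon as all its two-generated
subgroups are: all proper subgroups are solvable, no two elements generate, and `x₀` is an element of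
prime order `p ≥ 5` whose conjugates commute whenever they lie in a common `p`-subgroup.
-/

set_option autoImplicit false
set_option linter.style.haveILetI false
set_option linter.unusedSectionVars false

open Subgroup

namespace CfsgLib.Solv.TwoGen

universe u

variable {G : Type u} [Group G] [Finite G]

/-- All proper subgroups are solvable, no two elements generate the group, the centre is trivial,
and `x₀` has prime order `p ≥ 5`, commutes with another element of order `p`, and commutes with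
each of its conjugates lying in a common `p`-subgroup. -/
structure Setting (G : Type u) [Group G] (p : ℕ) (x₀ : G) : Prop where
  solv : ∀ H : Subgroup G, H ≠ ⊤ → Group.IsSolvable H
  pair : ∀ a b : G, closure ({a, b} : Set G) ≠ ⊤
  center : Subgroup.center G = ⊥
  five : 5 ≤ p
  ord : orderOf x₀ = p
  comm : ∀ R : Subgroup G, IsPGroup p R → ∀ a ∈ R, ∀ b ∈ R, IsConj x₀ a → IsConj x₀ b → a * b = b * a
  rich : ∃ e : G, e ^ p = 1 ∧ x₀ * e = e * x₀ ∧ e ∉ zpowers x₀

/-- `O_{p'}(H)`, inside `G`. -/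
def core (p : ℕ) (H : Subgroup G) : Subgroup G := (Cfsg.pPrimeCore p H).map H.subtype

/-- `y ≡ x` modulo the `p'`-core of `⟨x, y⟩`. -/
def Eqv (p : ℕ) (x y : G) : Prop := x⁻¹ * y ∈ core p (closure ({x, y} : Set G))

theorem mem_pair (x y : G) : x ∈ closure ({x, y} : Set G) ∧ y ∈ closure ({x, y} : Set G) :=
  ⟨subset_closure (Set.mem_insert _ _), subset_closure (Set.mem_insert_of_mem _ rfl)⟩

theorem pair_le {x y : G} {H : Subgroup G} (hx : x ∈ H) (hy : y ∈ H) :
    closure ({x, y} : Set G) ≤ H :=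
  (closure_le _).2 (Set.insert_subset hx (Set.singleton_subset_iff.2 hy))

section CoreFacts

variable {p : ℕ} [hp : Fact p.Prime]

theorem core_le (H : Subgroup G) : core p H ≤ H := map_subtype_le _

theorem core_card (H : Subgroup G) : (Nat.card (core p H)).Coprime p := by
  rw [core, card_map_of_injective H.subtype_injective]
  exact CfsgLib.Coprime.pPrimeCore_coprime hp.out

theorem core_conj {H : Subgroup G} {h o : G} (hh : h ∈ H) (ho : o ∈ core p H) :
    h * o * h⁻¹ ∈ core p H := by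
  obtain ⟨o', ho', rfl⟩ := ho
  haveI := CfsgLib.Coprime.pPrimeCore_characteristic (G := H) p
  exact ⟨⟨h, hh⟩ * o' * ⟨h, hh⟩⁻¹, Subgroup.Normal.conj_mem inferInstance o' ho' _, rfl⟩

theorem le_normalizer_core (H : Subgroup G) : H ≤ normalizer (core p H : Set G) := by
  intro h hh
  refine Subgroup.mem_normalizer_iff.2 fun o => ⟨fun ho => core_conj hh ho, fun ho => ?_⟩
  have h2 := core_conj (H.inv_mem hh) ho
  rwa [show h⁻¹ * (h * o * h⁻¹) * h⁻¹⁻¹ = o by group] at h2

theorem inf_core_le {L H : Subgroup G} (h : L ≤ H) : L ⊓ core p H ≤ core p L := by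
  set D := (core p H).subgroupOf L with hD
  haveI : D.Normal := normal_subgroupOf_iff_le_normalizer_inf.2
    (CfsgLib.Coprime.inf_le_normalizer (h.trans (le_normalizer_core H)) le_normalizer)
  have hcard : (Nat.card D).Coprime p := by
    refine (core_card H).coprime_dvd_left ?_
    rw [← card_map_of_injective (K := D) L.subtype_injective, subgroupOf_map_subtype]
    exact card_dvd_of_le inf_le_left
  intro x hx
  exact ⟨⟨x, hx.1⟩, CfsgLib.Coprime.le_pPrimeCore hcard hx.2, rfl⟩

/-- An element of `p`-power order in the core is trivial. -/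
theorem core_eq_one {H : Subgroup G} {x : G} {k : ℕ} (hx : x ∈ core p H) (hk : x ^ p ^ k = 1) :
    x = 1 := by
  refine orderOf_eq_one_iff.1 (Nat.eq_one_of_dvd_coprimes (Nat.Coprime.pow_left k (core_card H).symm)
    (orderOf_dvd_of_pow_eq_one hk) ?_)
  rw [← Subgroup.orderOf_mk x hx]
  exact orderOf_dvd_natCard _

/-- An element of order `p` is conjugate by the core to every `p`-element in its coset. -/
theorem conj_of_mod {H : Subgroup G} {a t : G} {k : ℕ} (ha : a ∈ H) (hap : a ^ p = 1)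
    (htk : t ^ p ^ k = 1) (hmod : a⁻¹ * t ∈ core p H) :
    ∃ o ∈ core p H, o * a * o⁻¹ = t := by
  set O := core p H with hO
  have hAN : zpowers a ≤ normalizer (O : Set G) := zpowers_le.2 (le_normalizer_core H ha)
  by_cases ha1 : a = 1
  · subst ha1
    rw [inv_one, one_mul] at hmod
    exact ⟨1, one_mem _, by rw [core_eq_one hmod htk]; group⟩
  have hao : orderOf a = p := orderOf_eq_prime hap ha1
  have haO : a ∉ O := fun h => ha1 (core_eq_one (k := 1) h (by rw [pow_one]; exact hap))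
  -- powers of `t` are congruent to the powers of `a`
  have hpow : ∀ n : ℕ, (a ^ n)⁻¹ * t ^ n ∈ O := by
    intro n
    induction n with
    | zero => simp
    | succ n ih =>
      have h1 : a⁻¹ * ((a ^ n)⁻¹ * t ^ n) * a ∈ O := by
        have := core_conj (H.inv_mem ha) ih
        rwa [inv_inv] at this
      have := mul_mem h1 hmod
      rwa [show a⁻¹ * ((a ^ n)⁻¹ * t ^ n) * a * (a⁻¹ * t) = (a ^ (n + 1))⁻¹ * t ^ (n + 1) by
        rw [pow_succ a, pow_succ t, mul_inv_rev]; group] at this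
  have htp : t ^ p = 1 := by
    have h := hpow p
    rw [hap, inv_one, one_mul] at h
    exact core_eq_one (k := k) h (by rw [← pow_mul, mul_comm, pow_mul, htk, one_pow])
  have ht1 : t ≠ 1 := fun e => haO (by
    have := hmod
    rw [e, mul_one] at this
    simpa using O.inv_mem this)
  have hcop : (Nat.card O).Coprime (Nat.card (zpowers a)) := by
    rw [Nat.card_zpowers, hao]; exact core_card H
  obtain ⟨o, ho, hoe⟩ := CfsgLib.Coprime.sz_conj_in (A := zpowers a) (B := zpowers t) (N := O) hAN hcop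
    (zpowers_le.2 (by
      have := mul_mem_sup (mem_zpowers a) hmod
      rwa [mul_inv_cancel_left] at this))
    (by rw [Nat.card_zpowers, Nat.card_zpowers, hao, orderOf_eq_prime htp ht1])
    (Or.inl (CfsgLib.Coprime.isSolvable_of_isMulCommutative inferInstance))
  have hmem : o * t * o⁻¹ ∈ zpowers a := hoe ▸ CfsgLib.Coprime.conj_mem_conjBy (mem_zpowers t)
  refine ⟨o⁻¹, O.inv_mem ho, ?_⟩
  have hdiff : a⁻¹ * (o * t * o⁻¹) ∈ O := by
    have h1 : a⁻¹ * o * a ∈ O := by
      have := core_conj (H.inv_mem ha) ho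
      rwa [inv_inv] at this
    have := mul_mem (mul_mem h1 hmod) (O.inv_mem ho)
    rwa [show a⁻¹ * o * a * (a⁻¹ * t) * o⁻¹ = a⁻¹ * (o * t * o⁻¹) by group] at this
  have : a⁻¹ * (o * t * o⁻¹) = 1 := by
    obtain ⟨i, hi⟩ := mem_zpowers_iff.1 hmem
    refine core_eq_one (k := 1) hdiff ?_
    rw [pow_one, ← hi, ← zpow_neg_one, ← zpow_add, ← zpow_natCast, ← zpow_mul, mul_comm, zpow_mul,
      zpow_natCast, hap, one_zpow]
  rw [inv_mul_eq_one] at this
  rw [inv_inv, this]; group

end CoreFacts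

namespace Setting

variable {p : ℕ} [hp : Fact p.Prime] {x₀ : G} (S : Setting G p x₀)

include S

theorem cls_pow {x : G} (hx : IsConj x₀ x) : x ^ p = 1 := by
  obtain ⟨c, rfl⟩ := isConj_iff.1 hx
  rw [conj_pow, ← S.ord, pow_orderOf_eq_one]; group

theorem cls_conj {x : G} (hx : IsConj x₀ x) (g : G) : IsConj x₀ (g * x * g⁻¹) :=
  hx.trans (isConj_iff.2 ⟨g, rfl⟩)

theorem no_qd {X : Type u} [Group X] [Finite X] (hX : Group.IsSolvable X) :
    ¬ Cfsg.Involves ↥(Cfsg.qd p) X :=
  CfsgLib.Qd.not_involves_qd_of_slTwo (CfsgLib.Fusion.not_involves_slTwo_of_isPSolvable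
    (by have := S.five; omega) (CfsgLib.PGroup.MaxPNilpotent.isPSolvable_of_solvable hp.out _ X rfl hX))

/-- In a proper subgroup two conjugates of `x₀` commute modulo the core, and an element of the core
of the subgroup they generate lies in the core of the subgroup. -/
theorem image_facts {H : Subgroup G} (hH : H ≠ ⊤) {a b : G} (ha : IsConj x₀ a) (haH : a ∈ H)
    (hb : IsConj x₀ b) (hbH : b ∈ H) :
    a * b * a⁻¹ * b⁻¹ ∈ core p H ∧
      ∀ z ∈ core p (closure ({a, b} : Set G)), z ∈ core p H := by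
  haveI := S.solv H hH
  have h2 : p ≠ 2 := by have := S.five; omega
  haveI : (Cfsg.pPrimeCore p H).Normal := Subgroup.sSup_normal _ fun _ h => h.1
  set π := QuotientGroup.mk' (Cfsg.pPrimeCore p H) with hπ
  have hπs := QuotientGroup.mk'_surjective (Cfsg.pPrimeCore p H)
  set Q := H ⧸ Cfsg.pPrimeCore p H
  haveI := CfsgLib.Coprime.pCore_normal' (G := Q) p
  set V := Cfsg.pCore p Q with hV
  have hVp : IsPGroup p V := CfsgLib.Coprime.pCore_isPGroup p
  haveI : Group.IsSolvable Q := solvable_of_surjective hπs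
  have hc : centralizer (V : Set Q) ≤ V :=
    CfsgLib.Coprime.centralizer_pCore_le (CfsgLib.Coprime.pPrimeCore_quotient_eq_bot hp.out)
  have hst : Cfsg.IsPStableOn p V := by
    by_contra hcon
    exact S.no_qd (X := Q) inferInstance (CfsgLib.Qd.sections_of_not_isPStableOn h2 V hVp hcon).1
  -- every conjugate of `x₀` in `H` maps into `V`
  have hin : ∀ (y : H), IsConj x₀ (y : G) → π y ∈ V := by
    intro y hy
    obtain ⟨T, hT⟩ : ∃ T : Sylow p H, y ∈ T := by
      have hz : IsPGroup p (zpowers y) := by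
        rw [IsPGroup.iff_card]
        obtain ⟨m, -, hm⟩ := (Nat.dvd_prime_pow hp.out).1
          (show orderOf y ∣ p ^ 1 by
            rw [pow_one, ← Subgroup.orderOf_coe]; exact orderOf_dvd_of_pow_eq_one (S.cls_pow hy))
        exact ⟨m, by rw [Nat.card_zpowers, hm]⟩
      obtain ⟨T, hT⟩ := hz.exists_le_sylow
      exact ⟨T, hT (mem_zpowers y)⟩
    set A := closure {z : H | ∃ v ∈ T, z = v * y * v⁻¹} with hA
    have hTp : IsPGroup p ((T : Subgroup H).map H.subtype) := T.2.map _
    have hAc : A ≤ centralizer (A : Set H) := by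
      rw [hA, centralizer_closure, closure_le]
      rintro _ ⟨v, hv, rfl⟩
      rintro _ ⟨w, hw, rfl⟩
      refine Subtype.ext ?_
      exact S.comm _ hTp _ (mem_map_of_mem _ (mul_mem (mul_mem hw hT) (inv_mem hw))) _
        (mem_map_of_mem _ (mul_mem (mul_mem hv hT) (inv_mem hv))) (S.cls_conj hy _) (S.cls_conj hy _)
    have hyA : y ∈ A := subset_closure ⟨1, one_mem _, by group⟩
    have hAn : (T : Subgroup H) ≤ normalizer (A : Set H) := by
      refine fun v hv => Subgroup.mem_normalizer_iff.2 fun z => ?_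
      have key : ∀ v ∈ (T : Subgroup H), A.map (MulAut.conj v).toMonoidHom ≤ A := by
        intro v hv
        rw [hA, MonoidHom.map_closure, closure_le]
        rintro _ ⟨_, ⟨w, hw, rfl⟩, rfl⟩
        exact subset_closure ⟨v * w, mul_mem hv hw, by simp [MulAut.conj_apply]; group⟩
      constructor
      · exact fun hz => key v hv ⟨z, hz, by simp [MulAut.conj_apply]⟩
      · exact fun hz => key v⁻¹ ((T : Subgroup H).inv_mem hv) ⟨_, hz, by simp [MulAut.conj_apply]; group⟩
    have hVT : V ≤ (T : Subgroup H).map π := by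
      have := CfsgLib.Coprime.pCore_le_sylow (T.mapSurjective hπs)
      rwa [Sylow.coe_mapSurjective] at this
    have h1 : ⁅V, zpowers (π y)⁆ ≤ A.map π := by
      refine (commutator_mono hVT (zpowers_le.2 (mem_map_of_mem π hyA))).trans ?_
      rw [← Subgroup.map_commutator]
      exact map_mono (le_normalizer_iff_commutator_le_right.1 hAn)
    have h3 : ⁅⁅V, zpowers (π y)⁆, zpowers (π y)⁆ = ⊥ := by
      refine le_bot_iff.1 ((commutator_mono h1 (zpowers_le.2 (mem_map_of_mem π hyA))).trans ?_)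
      rw [← Subgroup.map_commutator, commutator_eq_bot_iff_le_centralizer.2 hAc, Subgroup.map_bot]
    set C := centralizer (V : Set Q)
    have hker : IsPGroup p (QuotientGroup.mk' C).ker := by
      rw [QuotientGroup.ker_mk']
      exact hVp.to_le hc
    haveI := CfsgLib.Coprime.pCore_normal' (G := Q ⧸ C) p
    have h4 : (Cfsg.pCore p (Q ⧸ C)).comap (QuotientGroup.mk' C) ≤ V :=
      CfsgLib.Coprime.le_pCore (IsPGroup.comap_of_ker_isPGroup (CfsgLib.Coprime.pCore_isPGroup p)
        (QuotientGroup.mk' C) hker)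
    exact h4 (hst (π y) h3)
  obtain ⟨a', rfl⟩ : ∃ a' : H, (a' : G) = a := ⟨⟨a, haH⟩, rfl⟩
  obtain ⟨b', rfl⟩ : ∃ b' : H, (b' : G) = b := ⟨⟨b, hbH⟩, rfl⟩
  refine ⟨?_, ?_⟩
  · -- lift `π b'` into a Sylow subgroup containing `a'`
    obtain ⟨T, hT⟩ : ∃ T : Sylow p H, a' ∈ T := by
      have hz : IsPGroup p (zpowers a') := by
        rw [IsPGroup.iff_card]
        obtain ⟨m, -, hm⟩ := (Nat.dvd_prime_pow hp.out).1
          (show orderOf a' ∣ p ^ 1 by
            rw [pow_one, ← Subgroup.orderOf_coe]; exact orderOf_dvd_of_pow_eq_one (S.cls_pow ha))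
        exact ⟨m, by rw [Nat.card_zpowers, hm]⟩
      obtain ⟨T, hT⟩ := hz.exists_le_sylow
      exact ⟨T, hT (mem_zpowers a')⟩
    have hVT : V ≤ (T : Subgroup H).map π := by
      have := CfsgLib.Coprime.pCore_le_sylow (T.mapSurjective hπs)
      rwa [Sylow.coe_mapSurjective] at this
    obtain ⟨t, ht, hte⟩ := hVT (hin b' hb)
    obtain ⟨k, hk⟩ := T.2 ⟨t, ht⟩
    have hmod : (b' : G)⁻¹ * (t : G) ∈ core p H :=
      ⟨b'⁻¹ * t, QuotientGroup.eq.1 hte.symm, rfl⟩
    obtain ⟨o, ho, hoe⟩ := conj_of_mod (k := k) b'.2 (S.cls_pow hb)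
      (by simpa using congrArg (fun z : T => ((z : H) : G)) hk) hmod
    have htK : IsConj x₀ (t : G) := hoe ▸ S.cls_conj hb o
    have hcomm : a' * t = t * a' := Subtype.ext (S.comm _ (T.2.map H.subtype) _
      (mem_map_of_mem _ hT) _ (mem_map_of_mem _ ht) ha htK)
    refine ⟨a' * b' * a'⁻¹ * b'⁻¹, ?_, rfl⟩
    refine (QuotientGroup.eq_one_iff _).1 ?_
    show π (a' * b' * a'⁻¹ * b'⁻¹) = 1
    rw [map_mul, map_mul, map_mul, map_inv, map_inv, ← hte, ← map_mul, hcomm, map_mul]
    group
  · intro z hz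
    have hzH : z ∈ H := pair_le a'.2 b'.2 (core_le _ hz)
    obtain ⟨k, hk⟩ : ∃ k, π ⟨z, hzH⟩ ^ p ^ k = 1 := by
      have hzV : π ⟨z, hzH⟩ ∈ V := by
        have hle : closure ({(a' : G), (b' : G)} : Set G) ≤ (V.comap π).map H.subtype :=
          pair_le ⟨a', hin a' ha, rfl⟩ ⟨b', hin b' hb, rfl⟩
        obtain ⟨z', hz', hze⟩ := hle (core_le _ hz)
        obtain rfl : z' = ⟨z, hzH⟩ := Subtype.ext hze
        exact hz'
      obtain ⟨k, hk⟩ := hVp ⟨_, hzV⟩
      exact ⟨k, by simpa using congrArg Subtype.val hk⟩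
    have h1 : orderOf (π ⟨z, hzH⟩) = 1 := by
      refine Nat.eq_one_of_dvd_coprimes (Nat.Coprime.pow_left k
        (core_card (closure ({(a' : G), (b' : G)} : Set G))).symm) (orderOf_dvd_of_pow_eq_one hk) ?_
      refine (orderOf_map_dvd π _).trans ?_
      rw [← Subgroup.orderOf_coe]
      show orderOf z ∣ _
      rw [← Subgroup.orderOf_mk z hz]
      exact orderOf_dvd_natCard _
    exact ⟨⟨z, hzH⟩, (QuotientGroup.eq_one_iff _).1 (orderOf_eq_one_iff.1 h1), rfl⟩

/-- Inside a proper subgroup the relation is congruence modulo the core. -/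
theorem eqv_iff {H : Subgroup G} (hH : H ≠ ⊤) {x y : G} (hx : IsConj x₀ x) (hxH : x ∈ H)
    (hy : IsConj x₀ y) (hyH : y ∈ H) : Eqv p x y ↔ x⁻¹ * y ∈ core p H :=
  ⟨fun h => (S.image_facts hH hx hxH hy hyH).2 _ h, fun h => inf_core_le (pair_le hxH hyH)
    ⟨mul_mem (Subgroup.inv_mem _ (mem_pair x y).1) (mem_pair x y).2, h⟩⟩

theorem eqv_refl (x : G) : Eqv p x x := by
  unfold Eqv; rw [inv_mul_cancel]; exact one_mem _

theorem eqv_symm {x y : G} (h : Eqv p x y) : Eqv p y x := by
  unfold Eqv at h ⊢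
  rw [Set.pair_comm]
  simpa using Subgroup.inv_mem _ h

theorem eqv_trans_in {H : Subgroup G} (hH : H ≠ ⊤) {x y z : G} (hx : IsConj x₀ x) (hxH : x ∈ H)
    (hy : IsConj x₀ y) (hyH : y ∈ H) (hz : IsConj x₀ z) (hzH : z ∈ H)
    (h1 : Eqv p x y) (h2 : Eqv p y z) : Eqv p x z := by
  rw [S.eqv_iff hH hx hxH hy hyH] at h1
  rw [S.eqv_iff hH hy hyH hz hzH] at h2
  rw [S.eqv_iff hH hx hxH hz hzH]
  simpa [mul_assoc] using mul_mem h1 h2

/-- Commuting congruent conjugates are equal. -/
theorem eq_of_commute {x y : G} (hx : IsConj x₀ x) (hy : IsConj x₀ y) (hc : x * y = y * x)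
    (h : Eqv p x y) : x = y := by
  refine inv_mul_eq_one.1 (core_eq_one (k := 1) h ?_)
  rw [pow_one, (Commute.inv_left (show Commute x y from hc)).mul_pow, inv_pow, S.cls_pow hx,
    S.cls_pow hy, inv_one, one_mul]

/-- Conjugation by an element of the class preserves the classes. -/
theorem eqv_conj_self {z y : G} (hz : IsConj x₀ z) (hy : IsConj x₀ y) :
    Eqv p z (y * z * y⁻¹) := by
  have hm := mem_pair z y
  rw [S.eqv_iff (S.pair z y) hz hm.1 (S.cls_conj hz y) (mul_mem (mul_mem hm.2 hm.1) (inv_mem hm.2))]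
  have h1 := (S.image_facts (S.pair z y) hy hm.2 hz hm.1).1
  have := core_conj (inv_mem hm.1) h1
  rwa [show z⁻¹ * (y * z * y⁻¹ * z⁻¹) * z⁻¹⁻¹ = z⁻¹ * (y * z * y⁻¹) by group] at this

/-- Two congruent conjugates and an element centralizing one of them lie in a proper subgroup. -/
theorem exists_proper {x y h : G} (hx : IsConj x₀ x) (hy : IsConj x₀ y) (hxy : Eqv p x y)
    (hh : h * x = x * h) : ∃ H : Subgroup G, H ≠ ⊤ ∧ x ∈ H ∧ y ∈ H ∧ h ∈ H := by
  obtain ⟨c, hc, hce⟩ := conj_of_mod (k := 1) (mem_pair x y).1 (S.cls_pow hx)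
    (by rw [pow_one]; exact S.cls_pow hy) hxy
  refine ⟨closure {x, c * h}, S.pair _ _, (mem_pair _ _).1, ?_⟩
  have hg : c * h * x * (c * h)⁻¹ = y := by
    rw [mul_inv_rev, mul_assoc c h x, hh, ← hce]; group
  have hyH : y ∈ closure ({x, c * h} : Set G) := hg ▸ mul_mem (mul_mem (mem_pair _ _).2
    (mem_pair _ _).1) (inv_mem (mem_pair _ _).2)
  have hcH : c ∈ closure ({x, c * h} : Set G) := pair_le (mem_pair _ _).1 hyH (core_le _ hc)
  refine ⟨hyH, ?_⟩
  have := mul_mem (inv_mem hcH) (mem_pair x (c * h)).2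
  rwa [inv_mul_cancel_left] at this

end Setting

end CfsgLib.Solv.TwoGen
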