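import Cfsg.Agent.Lib.Solv.TwoGenerated.Relation

/-!
# The exponent of `x₀` in the `p`-part is additive, so the group is not perfect
-/

set_option autoImplicit false
set_option linter.style.haveILetI false
set_option linter.unusedSectionVars false

open Subgroup
open scoped commutatorElement

namespace CfsgLib.Solv.TwoGen

universe u

variable {G : Type u} [Group G] [Finite G]

namespace Setting

variable {p : ℕ} [hp : Fact p.Prime] {x₀ : G} (S : Setting G p x₀)

include S

theorem cls_ne_one {x : G} (hx : IsConj x₀ x) : x ≠ 1 := by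
  rintro rfl
  obtain ⟨d, hd⟩ := isConj_iff.1 hx
  have h2 := S.ord
  rw [conj_eq_one_iff.1 hd, orderOf_one] at h2
  exact hp.out.ne_one h2.symm

theorem orderOf_cls {x : G} (hx : IsConj x₀ x) : orderOf x = p :=
  orderOf_eq_prime (S.cls_pow hx) (S.cls_ne_one hx)

/-- When the class generates, any two of its members are congruent. -/
theorem eqv_all (hgen : closure {x | IsConj x₀ x} = ⊤) {x y : G} (hx : IsConj x₀ x) (hy : IsConj x₀ y) :
    Eqv p x y := by
  have key : ∀ g : G, ∀ z : G, IsConj x₀ z → Eqv p z (g * z * g⁻¹) := by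
    intro g
    have hg : g ∈ closure {x | IsConj x₀ x} := hgen ▸ mem_top g
    induction hg using Subgroup.closure_induction with
    | mem a ha => exact fun z hz => S.eqv_conj_self hz ha
    | one =>
      intro z _
      rw [one_mul, inv_one, mul_one]
      exact S.eqv_refl z
    | mul a b _ _ iha ihb =>
      intro z hz
      have h1 := S.eqv_symm (ihb z hz)
      have h2 := iha _ (S.cls_conj hz b)
      rw [show a * (b * z * b⁻¹) * a⁻¹ = a * b * z * (a * b)⁻¹ by group] at h2
      exact S.eqv_trans (S.cls_conj hz b) hz (S.cls_conj hz (a * b)) h1 h2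
    | inv a _ iha =>
      intro z hz
      have h1 := iha _ (S.cls_conj hz a⁻¹)
      rw [show a * (a⁻¹ * z * a⁻¹⁻¹) * a⁻¹ = z by group] at h1
      exact S.eqv_symm h1
  obtain ⟨g, rfl⟩ := isConj_iff.1 (hx.symm.trans hy)
  exact key g x hx

/-- The class does not generate a perfect group. -/
theorem false_of_perfect (hgen : closure {x | IsConj x₀ x} = ⊤) (hperf : commutator G = ⊤) :
    False := by
  classical
  set K : Set G := {x | IsConj x₀ x} with hK
  set v := (Nat.card G).factorization p with hv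
  set n := Nat.card G / p ^ v with hn
  have hnp : ¬ p ∣ n := Nat.not_dvd_ordCompl hp.out Nat.card_pos.ne'
  have hpn : p ^ v * n = Nat.card G := Nat.ordProj_mul_ordCompl_eq_self _ _
  have hpow : ∀ g : G, (g ^ n) ^ p ^ v = 1 := fun g => by
    rw [← pow_mul, mul_comm, hpn, pow_card_eq_one']
  have hcopn : n.Coprime p := ((hp.out.coprime_iff_not_dvd).2 hnp).symm
  -- congruent exponents
  have hmodp : ∀ {u : G}, IsConj x₀ u → ∀ {i j : ℕ}, u ^ i = u ^ j → i ≡ j [MOD p] := by
    intro u hu i j h
    have := pow_eq_pow_iff_modEq.1 h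
    rwa [S.orderOf_cls hu] at this
  have hroot : ∀ {u : G}, IsConj x₀ u → ∀ {i : ℕ}, ¬ p ∣ i → ∀ {H : Subgroup G}, u ^ i ∈ H → u ∈ H := by
    intro u hu i hi H hmem
    have hc : i.Coprime (orderOf u) := by
      rw [S.orderOf_cls hu]; exact ((hp.out.coprime_iff_not_dvd).2 hi).symm
    obtain ⟨m, hm⟩ := exists_pow_eq_self_of_coprime hc
    exact hm ▸ pow_mem hmem m
  -- the predicate "the `p`-part is congruent to `x₀ ^ k`"
  let T : ℕ → G → Prop := fun k g => ∃ u, IsConj x₀ u ∧ g ^ n = u ^ (k * n)
  have hT0 : T 0 1 := ⟨x₀, IsConj.refl _, by rw [one_pow, zero_mul, pow_zero]⟩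
  have step : ∀ y, IsConj x₀ y → ∀ k g, T k g → T (k + 1) (y * g) := by
    rintro y hy k g ⟨u, hu, hgu⟩
    obtain ⟨hyH, hgH⟩ := mem_pair y g
    set H := closure ({y, g} : Set G)
    have hH : H ≠ ⊤ := S.pair y g
    haveI : (Cfsg.pPrimeCore p H).Normal := Subgroup.sSup_normal _ fun _ h => h.1
    set π := QuotientGroup.mk' (Cfsg.pPrimeCore p H) with hπ
    set Y : H := ⟨y, hyH⟩
    set g' : H := ⟨g, hgH⟩
    have hker : ∀ {a b : H}, π a = π b → (a : G)⁻¹ * b ∈ core p H := fun h =>
      ⟨_, QuotientGroup.eq.1 h, rfl⟩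
    have hker' : ∀ {a b : H}, (a : G)⁻¹ * b ∈ core p H → π a = π b := by
      rintro a b ⟨z, hz, hze⟩
      refine QuotientGroup.eq.2 ?_
      rwa [show a⁻¹ * b = z from Subtype.ext (by simpa using hze.symm)]
    have hconjH : g * y * g⁻¹ ∈ H := mul_mem (mul_mem hgH hyH) (Subgroup.inv_mem _ hgH)
    have hcomm : Commute (π Y) (π g') := by
      have h1 := (S.eqv_iff hH hy hyH (S.cls_conj hy g) hconjH).1
        (S.eqv_all hgen hy (S.cls_conj hy g))
      have h2 : π Y = π (g' * Y * g'⁻¹) := hker' (by simpa [Y, g'] using h1)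
      rw [map_mul, map_mul, map_inv, eq_mul_inv_iff_mul_eq] at h2
      exact h2
    have hgn : π g' ^ n = π Y ^ (k * n) := by
      rw [← map_pow, ← map_pow]
      by_cases hk : p ∣ k * n
      · have h1 : u ^ (k * n) = 1 := by
          obtain ⟨d, hd⟩ := hk
          rw [hd, pow_mul, S.cls_pow hu, one_pow]
        have h2 : y ^ (k * n) = 1 := by
          obtain ⟨d, hd⟩ := hk
          rw [hd, pow_mul, S.cls_pow hy, one_pow]
        exact congrArg π (Subtype.ext (by simp [Y, g', hgu, h1, h2]))
      · have huH : u ∈ H := hroot hu hk (hgu ▸ pow_mem hgH n)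
        have e1 : π Y = π ⟨u, huH⟩ := hker' (by
          simpa [Y] using (S.eqv_iff hH hy hyH hu huH).1 (S.eqv_all hgen hy hu))
        have e2 : g' ^ n = (⟨u, huH⟩ : H) ^ (k * n) := Subtype.ext (by simpa [g'] using hgu)
        rw [e2, map_pow, map_pow, e1]
    have hmain : π ((Y * g') ^ n) = π (Y ^ ((k + 1) * n)) := by
      rw [map_pow, map_pow, map_mul, hcomm.mul_pow, hgn, ← pow_add]
      congr 1
      ring
    obtain ⟨o, -, hoe⟩ := conj_of_mod (k := v) (pow_mem hyH ((k + 1) * n))
      (by rw [← pow_mul, mul_comm, pow_mul, S.cls_pow hy, one_pow]) (hpow (y * g))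
      (by simpa [Y, g'] using hker hmain.symm)
    exact ⟨o * y * o⁻¹, S.cls_conj hy o, by rw [conj_pow, hoe]⟩
  have huniq : ∀ k l g, T k g → T l g → k ≡ l [MOD p] := by
    rintro k l g ⟨u, hu, hgu⟩ ⟨w, hw, hgw⟩
    have e : u ^ (k * n) = w ^ (l * n) := hgu.symm.trans hgw
    refine Nat.ModEq.cancel_right_of_coprime ?_ (?_ : k * n ≡ l * n [MOD p])
    · exact hcopn.symm
    by_cases hk : p ∣ k * n
    · obtain ⟨d, hd⟩ := hk
      have h1 : w ^ (l * n) = w ^ 0 := by
        rw [← e, hd, pow_mul, S.cls_pow hu, one_pow, pow_zero]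
      exact (Nat.modEq_zero_iff_dvd.2 ⟨d, hd⟩).trans (hmodp hw h1).symm
    · have huw : u ∈ zpowers w := hroot hu hk (e ▸ pow_mem (mem_zpowers w) _)
      obtain ⟨i, hi⟩ := mem_zpowers_iff.1 huw
      have hc : u * w = w * u := hi ▸ ((Commute.refl w).zpow_left i).eq
      obtain rfl := S.eq_of_commute hu hw hc (S.eqv_all hgen hu hw)
      exact hmodp hu e
  -- every element is a product of conjugates
  have hlist : ∀ g : G, ∃ l : List G, (∀ y ∈ l, IsConj x₀ y) ∧ l.prod = g := by
    intro g
    have hg : g ∈ (closure K).toSubmonoid := by rw [hgen]; exact Submonoid.mem_top g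
    rw [Subgroup.closure_toSubmonoid_of_finite] at hg
    exact Submonoid.exists_list_of_mem_closure hg
  have hprod : ∀ l : List G, (∀ y ∈ l, IsConj x₀ y) → T l.length l.prod := by
    intro l
    induction l with
    | nil => exact fun _ => hT0
    | cons a l ih =>
      intro h
      rw [List.prod_cons, List.length_cons]
      exact step a (h a (by simp)) _ _ (ih fun y hy => h y (by simp [hy]))
  choose L hL hLe using hlist
  let φ : G →* Multiplicative (ZMod p) :=
    MonoidHom.mk' (fun g => Multiplicative.ofAdd (((L g).length : ℕ) : ZMod p)) fun a b => by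
      rw [← ofAdd_add, ← Nat.cast_add]
      refine congrArg Multiplicative.ofAdd ((ZMod.natCast_eq_natCast_iff _ _ p).2 ?_)
      refine huniq _ _ (a * b) ?_ ?_
      · have := hprod _ (hL (a * b))
        rwa [hLe] at this
      · have := hprod (L a ++ L b) (by
          intro y hy
          rcases List.mem_append.1 hy with h | h
          · exact hL a y h
          · exact hL b y h)
        rwa [List.length_append, List.prod_append, hLe, hLe] at this
  have hker : x₀ ∈ φ.ker := Abelianization.commutator_subset_ker φ (hperf ▸ mem_top x₀)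
  have h1 : T 1 x₀ := by simpa using step x₀ (IsConj.refl _) 0 1 hT0
  have h2 : T (L x₀).length x₀ := by
    have := hprod _ (hL x₀)
    rwa [hLe] at this
  have h3 : (L x₀).length ≡ 0 [MOD p] :=
    (ZMod.natCast_eq_natCast_iff _ _ p).1 (by simpa [φ, MonoidHom.mem_ker] using hker)
  exact hp.out.not_dvd_one (Nat.modEq_zero_iff_dvd.1 ((huniq 1 _ _ h1 h2).trans h3))

end Setting

end CfsgLib.Solv.TwoGen
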