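import Cfsg.Agent.Lib.Solv.TwoGenerated.MinimalSimple
import Cfsg.Agent.Lib.OddConseq.ClassSizeTwoPart

/-!
# Two-generated subgroups decide solvability

A finite group is solvable if all its two-generated subgroups are solvable (Flavell; here with a short
elementary proof), and if all its solubilizers are subgroups.
-/

set_option autoImplicit false
set_option linter.style.haveILetI false
set_option linter.unusedSectionVars false

open Subgroup

namespace CfsgLib.Solv.TwoGen

universe u

theorem map_pair {G H : Type u} [Group G] [Group H] (f : G →* H) (a b : G) :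
    (closure ({a, b} : Set G)).map f = closure ({f a, f b} : Set H) := by
  rw [MonoidHom.map_closure, Set.image_pair]

/-- A non-solvable finite group of least order among those with a property inherited by subgroups
and by quotients modulo solvable normal subgroups is simple with all proper subgroups solvable. -/
theorem isSolvable_of_minimal (P : ∀ (G : Type u) [Group G], Prop)
    (hsub : ∀ (G : Type u) [Group G] [Finite G] (H : Subgroup G), P G → P H)
    (hquo : ∀ (G : Type u) [Group G] [Finite G] (N : Subgroup G) [N.Normal], Group.IsSolvable N →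
      P G → P (G ⧸ N))
    (hmin : ∀ (G : Type u) [Group G] [Finite G], P G → (∀ N : Subgroup G, N.Normal → N = ⊥ ∨ N = ⊤) →
      (∀ H : Subgroup G, H ≠ ⊤ → Group.IsSolvable H) → Group.IsSolvable G)
    (G : Type u) [Group G] [Finite G] (hG : P G) : Group.IsSolvable G := by
  suffices key : ∀ (n : ℕ) (G : Type u) [Group G] [Finite G], Nat.card G ≤ n → P G → Group.IsSolvable G from
    key _ G le_rfl hG
  intro n
  induction n with
  | zero => intro G _ _ h _; exact absurd h (not_le.2 Nat.card_pos)
  | succ n ih =>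
    intro G _ _ hn hG
    have hsol : ∀ H : Subgroup G, H ≠ ⊤ → Group.IsSolvable H := fun H hH => ih H (by
      have := lt_of_le_of_ne (Subgroup.card_le_card_group H) fun e => hH (Subgroup.eq_top_of_card_eq H e)
      omega) (hsub G H hG)
    by_cases hsimple : ∀ N : Subgroup G, N.Normal → N = ⊥ ∨ N = ⊤
    · exact hmin G hG hsimple hsol
    push Not at hsimple
    obtain ⟨N, hN, hN0, hNt⟩ := hsimple
    haveI := hN
    haveI := hsol N hNt
    haveI : Group.IsSolvable (G ⧸ N) := ih (G ⧸ N) (by
      haveI : Nontrivial N := (Subgroup.nontrivial_iff_ne_bot N).2 hN0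
      have h1 := card_eq_card_quotient_mul_card_subgroup N
      have h2 : 1 < Nat.card N := Finite.one_lt_card
      have h3 : 0 < Nat.card (G ⧸ N) := Nat.card_pos
      nlinarith) (hquo G N inferInstance hG)
    exact Group.isSolvable_of_ker_le_range N.subtype (QuotientGroup.mk' N) (by
      rw [QuotientGroup.ker_mk', Subgroup.range_subtype])

theorem solvable_closure_of_map {G H : Type u} [Group G] [Group H] (f : G →* H) (a b : G)
    (h : Group.IsSolvable (closure ({a, b} : Set G))) :
    Group.IsSolvable (closure ({f a, f b} : Set H)) := by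
  haveI := h
  rw [← map_pair]
  exact Group.isSolvable_of_surjective (f := (f.subgroupMap (closure ({a, b} : Set G))))
    (f.subgroupMap_surjective _)

theorem solvable_closure_iff {G : Type u} [Group G] (H : Subgroup G) (a b : H) :
    Group.IsSolvable (closure ({a, b} : Set H)) ↔
      Group.IsSolvable (closure ({(a : G), (b : G)} : Set G)) := by
  refine ⟨fun h => solvable_closure_of_map H.subtype a b h, fun h => ?_⟩
  haveI := h
  have e : (closure ({a, b} : Set H)).map H.subtype = closure ({(a : G), (b : G)} : Set G) :=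
    map_pair H.subtype a b
  exact Group.isSolvable_of_isSolvable_injective
    (f := ((closure ({a, b} : Set H)).equivMapOfInjective H.subtype H.subtype_injective).trans
      (MulEquiv.subgroupCongr e) |>.toMonoidHom) (MulEquiv.injective _)

theorem solvable_of_eq {G : Type u} [Group G] {H K : Subgroup G} (e : H = K)
    (h : Group.IsSolvable H) : Group.IsSolvable K := by
  subst e; exact h

/-- A finite group whose two-generated subgroups are solvable is solvable. -/
theorem isSolvable_of_pairs {G : Type u} [Group G] [Finite G]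
    (h : ∀ a b : G, Group.IsSolvable (closure ({a, b} : Set G))) : Group.IsSolvable G := by
  refine isSolvable_of_minimal
    (fun G _ => ∀ a b : G, Group.IsSolvable (closure ({a, b} : Set G))) ?_ ?_ ?_ G h
  · exact fun G _ _ H hG a b => (solvable_closure_iff H a b).2 (hG a b)
  · intro G _ _ N _ _ hG a b
    obtain ⟨a, rfl⟩ := QuotientGroup.mk'_surjective N a
    obtain ⟨b, rfl⟩ := QuotientGroup.mk'_surjective N b
    exact solvable_closure_of_map _ a b (hG a b)
  · intro G _ _ hG hsimple hsol
    by_contra hns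
    refine false_of_minimal hns hsimple hsol fun a b htop => hns ?_
    haveI := hG a b
    haveI : Group.IsSolvable (⊤ : Subgroup G) := htop ▸ (inferInstance : Group.IsSolvable _)
    exact Group.isSolvable_of_surjective (f := (Subgroup.topEquiv (G := G)).toMonoidHom)
      (MulEquiv.surjective _)

/-- A simple group in which every non-identity element lies in exactly one maximal subgroup is
solvable: the conjugates of two maximal subgroups would cover more elements than there are. -/
theorem isSolvable_of_partition {G : Type u} [Group G] [Finite G]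
    (hsimple : ∀ N : Subgroup G, N.Normal → N = ⊥ ∨ N = ⊤)
    (huniq : ∀ x : G, x ≠ 1 → ∃ M : Subgroup G, IsCoatom M ∧ x ∈ M ∧
      ∀ N : Subgroup G, IsCoatom N → x ∈ N → N = M) : Group.IsSolvable G := by
  classical
  by_contra hns
  -- a maximal subgroup is self-normalizing
  have hself : ∀ M : Subgroup G, IsCoatom M → M ≠ ⊥ → ∀ g : G,
      M.map (MulAut.conj g).toMonoidHom = M → g ∈ M := by
    intro M hM hM0 g hg
    by_contra hgM
    have hnle : ¬ normalizer (M : Set G) ≤ M := fun h => hgM (h (Subgroup.mem_normalizer_iff.2 fun y => by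
      conv_rhs => rw [← hg, Subgroup.mem_map_equiv]
      simp [MulAut.conj_symm_apply, mul_assoc]))
    have htop : normalizer (M : Set G) = ⊤ :=
      hM.2 _ (lt_of_le_of_ne le_normalizer fun e => hnle e.ge)
    rcases hsimple M (normalizer_eq_top_iff.1 htop) with h | h
    · exact hM0 h
    · exact hM.1 h
  haveI : Nontrivial G := by
    by_contra h
    haveI := not_nontrivial_iff_subsingleton.1 h
    exact hns inferInstance
  obtain ⟨x₁, hx₁⟩ := exists_ne (1 : G)
  obtain ⟨M₁, hM₁, hxM₁, -⟩ := huniq x₁ hx₁
  obtain ⟨x₂, hx₂⟩ := CfsgLib.OddConseq.exists_not_conj_mem hM₁.1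
  have hx₂1 : x₂ ≠ 1 := fun e => hx₂ 1 (by simp [e, one_mem])
  obtain ⟨M₂, hM₂, hxM₂, -⟩ := huniq x₂ hx₂1
  have hne₁ : M₁ ≠ ⊥ := fun e => hx₁ (by rwa [e, Subgroup.mem_bot] at hxM₁)
  have hne₂ : M₂ ≠ ⊥ := fun e => hx₂1 (by rwa [e, Subgroup.mem_bot] at hxM₂)
  -- the conjugates
  have hco : ∀ M : Subgroup G, IsCoatom M → ∀ g : G, IsCoatom (M.map (MulAut.conj g).toMonoidHom) :=
    fun M hM g => ((MulAut.conj g).mapSubgroup.isCoatom_iff M).2 hM
  have hsame : ∀ M M' : Subgroup G, IsCoatom M → IsCoatom M' → ∀ g g' m m' : G, m ∈ M → m' ∈ M' →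
      m ≠ 1 → g * m * g⁻¹ = g' * m' * g'⁻¹ →
      M.map (MulAut.conj g).toMonoidHom = M'.map (MulAut.conj g').toMonoidHom := by
    intro M M' hM hM' g g' m m' hm hm' hm1 he
    obtain ⟨L, -, -, hL⟩ := huniq (g * m * g⁻¹) (by simpa using hm1)
    rw [hL _ (hco M hM g) ⟨m, hm, by simp⟩, hL _ (hco M' hM' g') ⟨m', hm', by simp [he]⟩]
  let D : Subgroup G → Type u := fun M => (G ⧸ M) × {m : M // m ≠ 1}
  let F : D M₁ ⊕ D M₂ → {g : G // g ≠ 1} := Sum.elim
    (fun d => ⟨d.1.out * (d.2.1 : G) * d.1.out⁻¹, by simpa using d.2.2⟩)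
    (fun d => ⟨d.1.out * (d.2.1 : G) * d.1.out⁻¹, by simpa using d.2.2⟩)
  have hinj : ∀ M : Subgroup G, IsCoatom M → M ≠ ⊥ → ∀ d d' : D M,
      d.1.out * (d.2.1 : G) * d.1.out⁻¹ = d'.1.out * (d'.2.1 : G) * d'.1.out⁻¹ → d = d' := by
    intro M hM hM0 d d' he
    have h1 := hsame M M hM hM d.1.out d'.1.out _ _ d.2.1.2 d'.2.1.2 (by simpa using d.2.2) he
    have h2 : d.1.out⁻¹ * d'.1.out ∈ M := hself M hM hM0 _ (by
      rw [map_mul, map_inv,
        show ((MulAut.conj d.1.out)⁻¹ * MulAut.conj d'.1.out).toMonoidHom =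
          ((MulAut.conj d.1.out).symm.toMonoidHom).comp (MulAut.conj d'.1.out).toMonoidHom from rfl,
        ← Subgroup.map_map, ← h1, Subgroup.map_map]
      convert Subgroup.map_id M
      ext y
      simp [mul_assoc])
    have h3 : d.1 = d'.1 := by
      rw [← QuotientGroup.out_eq' d.1, ← QuotientGroup.out_eq' d'.1]
      exact QuotientGroup.eq.2 h2
    rw [← h3] at he
    exact Prod.ext h3 (Subtype.ext (Subtype.ext (mul_left_cancel (mul_right_cancel he))))
  have hF : Function.Injective F := by
    have hcross : ∀ (d : D M₁) (d' : D M₂),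
        d.1.out * (d.2.1 : G) * d.1.out⁻¹ ≠ d'.1.out * (d'.2.1 : G) * d'.1.out⁻¹ := by
      intro d d' he
      have h1 := hsame M₁ M₂ hM₁ hM₂ _ _ _ _ d.2.1.2 d'.2.1.2 (by simpa using d.2.2) he
      obtain ⟨m, hm, hme⟩ := (h1 ▸ mem_map_of_mem (MulAut.conj d'.1.out).toMonoidHom hxM₂ :
        (MulAut.conj d'.1.out).toMonoidHom x₂ ∈ M₁.map (MulAut.conj d.1.out).toMonoidHom)
      refine hx₂ (d'.1.out⁻¹ * d.1.out) ?_
      simp only [MulEquiv.coe_toMonoidHom, MulAut.conj_apply] at hme
      rw [show (d'.1.out⁻¹ * d.1.out)⁻¹ * x₂ * (d'.1.out⁻¹ * d.1.out) =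
        d.1.out⁻¹ * (d'.1.out * x₂ * d'.1.out⁻¹) * d.1.out by group, ← hme]
      simpa [mul_assoc] using hm
    rintro (d | d) (d' | d') he <;>
      simp only [F, Sum.elim_inl, Sum.elim_inr, Subtype.mk.injEq] at he
    · exact congrArg Sum.inl (hinj M₁ hM₁ hne₁ d d' he)
    · exact absurd he (hcross d d')
    · exact absurd he.symm (hcross d' d)
    · exact congrArg Sum.inr (hinj M₂ hM₂ hne₂ d d' he)
  have hcard := Nat.card_le_card_of_injective F hF
  have hcD : ∀ M : Subgroup G, M ≠ ⊥ → Nat.card G ≤ 2 * Nat.card (D M) := by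
    intro M hM
    haveI : Nontrivial M := (Subgroup.nontrivial_iff_ne_bot M).2 hM
    haveI := Fintype.ofFinite M
    have h1 : Nat.card {m : M // m ≠ 1} = Nat.card M - 1 := by
      rw [Nat.card_eq_fintype_card, Fintype.card_subtype_compl, Fintype.card_subtype_eq,
        Nat.card_eq_fintype_card]
    rw [show Nat.card (D M) = Nat.card (G ⧸ M) * Nat.card {m : M // m ≠ 1} from Nat.card_prod _ _, h1,
      card_eq_card_quotient_mul_card_subgroup M]
    have h2 : 1 < Nat.card M := Finite.one_lt_card
    rw [← mul_left_comm]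
    exact Nat.mul_le_mul le_rfl (by omega)
  have hlt : Nat.card {g : G // g ≠ 1} < Nat.card G :=
    Finite.card_subtype_lt (x := (1 : G)) (by simp)
  rw [Nat.card_sum] at hcard
  have := hcD M₁ hne₁
  have := hcD M₂ hne₂
  omega

/-- The solubilizer of every element is a subgroup. -/
def SolubilizerSubgroups (G : Type*) [Group G] : Prop :=
  ∀ x : G, ∃ H : Subgroup G, (H : Set G) = {y : G | Group.IsSolvable (closure ({x, y} : Set G))}

theorem solubilizerSubgroups_of_solvable {G : Type u} [Group G] [Group.IsSolvable G] :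
    SolubilizerSubgroups G := fun x => ⟨⊤, by
  rw [Subgroup.coe_top]
  exact (Set.eq_univ_of_forall fun y => (inferInstance : Group.IsSolvable (closure ({x, y} : Set G)))).symm⟩

/-- A minimal simple group has a solubilizer which is not a subgroup. -/
theorem false_of_solubilizer {G : Type u} [Group G] [Finite G] (hns : ¬ Group.IsSolvable G)
    (hsimple : ∀ N : Subgroup G, N.Normal → N = ⊥ ∨ N = ⊤)
    (hsol : ∀ H : Subgroup G, H ≠ ⊤ → Group.IsSolvable H) (h : SolubilizerSubgroups G) : False := by
  classical
  obtain ⟨a, b, hab⟩ : ∃ a b : G, ¬ Group.IsSolvable (closure ({a, b} : Set G)) := by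
    by_contra hall
    push Not at hall
    exact hns (isSolvable_of_pairs hall)
  choose H hH using h
  have hmem : ∀ x y : G, y ∈ H x ↔ Group.IsSolvable (closure ({x, y} : Set G)) := fun x y => by
    rw [← SetLike.mem_coe, hH]; rfl
  have hover : ∀ (M : Subgroup G), M ≠ ⊤ → ∀ x ∈ M, M ≤ H x := by
    intro M hM x hx y hy
    haveI := hsol M hM
    exact (hmem x y).2 (Group.isSolvable_of_isSolvable_injective
      (f := Subgroup.inclusion ((closure_le M).2 (Set.insert_subset hx (Set.singleton_subset_iff.2 hy))))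
      (Subgroup.inclusion_injective _))
  -- conjugation permutes the solubilizers
  have hconj : ∀ g x : G, H x ≠ ⊤ → H (g * x * g⁻¹) ≠ ⊤ := by
    intro g x hx htop
    refine hx ((Subgroup.eq_top_iff' _).2 fun y => (hmem x y).2 ?_)
    have := solvable_closure_of_map (MulAut.conj g⁻¹).toMonoidHom (g * x * g⁻¹) (g * y * g⁻¹)
      ((hmem _ _).1 (htop ▸ mem_top (g * y * g⁻¹)))
    refine solvable_of_eq ?_ this
    simp only [MulEquiv.coe_toMonoidHom, MulAut.conj_apply]
    rw [show g⁻¹ * (g * x * g⁻¹) * g⁻¹⁻¹ = x by group, show g⁻¹ * (g * y * g⁻¹) * g⁻¹⁻¹ = y by group]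
  have ha : H a ≠ ⊤ := fun e => hab ((hmem a b).1 (e ▸ mem_top b))
  have hself : ∀ x, x ∈ H x := fun x => (hmem x x).2 (by
    rw [Set.pair_eq_singleton, ← zpowers_eq_closure]
    exact CfsgLib.Coprime.isSolvable_of_isMulCommutative inferInstance)
  -- the elements with everywhere solvable pairs form the trivial group
  have hU : ∀ x : G, x ≠ 1 → H x ≠ ⊤ := by
    intro x hx htop
    refine hx ?_
    set D := closure {y : G | H y = ⊤}
    have hD : D ≤ H a := by
      refine (closure_le _).2 fun y hy => (hmem a y).2 ?_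
      rw [Set.pair_comm]
      exact (hmem y a).1 ((show H y = ⊤ from hy) ▸ mem_top a)
    have hDn : D.Normal := by
      constructor
      intro y hy g
      induction hy using Subgroup.closure_induction with
      | mem y hy =>
        refine subset_closure ?_
        by_contra hne
        have := hconj g⁻¹ _ hne
        rw [show g⁻¹ * (g * y * g⁻¹) * g⁻¹⁻¹ = y by group] at this
        exact this hy
      | one => simp [one_mem]
      | mul y z _ _ iy iz =>
        rw [show g * (y * z) * g⁻¹ = (g * y * g⁻¹) * (g * z * g⁻¹) by group]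
        exact mul_mem iy iz
      | inv y _ iy =>
        rw [show g * y⁻¹ * g⁻¹ = (g * y * g⁻¹)⁻¹ by group]
        exact inv_mem iy
    rcases hsimple D hDn with h | h
    · have hxD : x ∈ D := subset_closure htop
      rwa [h, Subgroup.mem_bot] at hxD
    · exact absurd (top_le_iff.1 (h ▸ hD)) ha
  -- every non-identity element is in exactly one maximal subgroup
  have huniq : ∀ x : G, x ≠ 1 → ∀ M : Subgroup G, IsCoatom M → x ∈ M → M = H x := fun x hx M hM hxM =>
    (hover M hM.1 x hxM).eq_or_lt.resolve_right fun hlt => hU x hx (hM.2 _ hlt)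
  have hmax : ∀ x : G, x ≠ 1 → IsCoatom (H x) := by
    intro x hx
    obtain h | ⟨M, hM, hle⟩ := eq_top_or_exists_le_coatom (H x)
    · exact absurd h (hU x hx)
    · exact (huniq x hx M hM (hle (hself x))).symm ▸ hM
  exact hns (isSolvable_of_partition hsimple (fun x hx => ⟨H x, hmax x hx, hself x, huniq x hx⟩))

end CfsgLib.Solv.TwoGen
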