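import Cfsg.Agent.Lib.Solv.TwoGenerated.Exponent
import Cfsg.Agent.Lib.Block.PairSolvable.Criterion
import Cfsg.Agent.Lib.Invol.BGroup
import Cfsg.Agent.Lib.Coprime.UniqueOrderP
import Cfsg.Agent.Lib.Fusion.Thompson
import Cfsg.Agent.S0144
import Cfsg.Agent.S0118

/-!
# A group all of whose two-generated subgroups are solvable is solvable
-/

set_option autoImplicit false
set_option linter.style.haveILetI false
set_option linter.unusedSectionVars false

open Subgroup

namespace CfsgLib.Solv.TwoGen

universe u

variable {G : Type u} [Group G] [Finite G]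

/-- Without a section `SL₂(p)`, as all proper subgroups are solvable and the group is simple. -/
theorem no_slTwo {p : ℕ} [Fact p.Prime] (hp : 5 ≤ p)
    (hsol : ∀ H : Subgroup G, H ≠ ⊤ → Group.IsSolvable H)
    (hsimple : ∀ N : Subgroup G, N.Normal → N = ⊥ ∨ N = ⊤) (hcen : Subgroup.center G = ⊥) :
    ¬ ∃ (H K : Subgroup G) (hK : (K.subgroupOf H).Normal),
      Nonempty ((H ⧸ K.subgroupOf H) ≃* Matrix.SpecialLinearGroup (Fin 2) (ZMod p)) := by
  rintro ⟨H, K, hK, ⟨e⟩⟩
  haveI := hK
  have hneg := CfsgLib.Qd.neg_one_ne_one (p := p) (by omega)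
  set f : H →* Matrix.SpecialLinearGroup (Fin 2) (ZMod p) := e.toMonoidHom.comp (QuotientGroup.mk' _)
  have hf : Function.Surjective f := e.surjective.comp (QuotientGroup.mk'_surjective _)
  by_cases hH : H = ⊤
  · subst hH
    set f' : G →* Matrix.SpecialLinearGroup (Fin 2) (ZMod p) := f.comp Subgroup.topEquiv.symm.toMonoidHom
    have hf' : Function.Surjective f' := hf.comp Subgroup.topEquiv.symm.surjective
    obtain ⟨z, hz⟩ := hf' (-1)
    rcases hsimple f'.ker inferInstance with h | h
    · have hinj : Function.Injective f' := (MonoidHom.ker_eq_bot_iff f').1 h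
      have hzc : z ∈ Subgroup.center G := mem_center_iff.2 fun g => hinj (by
        rw [map_mul, map_mul, hz]
        exact Subtype.ext (by simp))
      rw [hcen, Subgroup.mem_bot] at hzc
      exact hneg (by rw [← hz, hzc, map_one])
    · have : z ∈ f'.ker := h ▸ mem_top z
      exact hneg (hz.symm.trans (MonoidHom.mem_ker.1 this))
  · haveI := hsol H hH
    haveI : Group.IsSolvable (Matrix.SpecialLinearGroup (Fin 2) (ZMod p)) :=
      Group.isSolvable_of_surjective hf
    exact CfsgLib.Fusion.not_involves_slTwo_of_isPSolvable (G := Matrix.SpecialLinearGroup (Fin 2) (ZMod p))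
      (by omega) (CfsgLib.PGroup.MaxPNilpotent.isPSolvable_of_solvable (Fact.out : p.Prime) _ _ rfl
        inferInstance) (CfsgLib.CFun.involves_self _)

theorem false_of_minimal (hns : ¬ Group.IsSolvable G)
    (hsimple : ∀ N : Subgroup G, N.Normal → N = ⊥ ∨ N = ⊤)
    (hsol : ∀ H : Subgroup G, H ≠ ⊤ → Group.IsSolvable H)
    (hpair : ∀ a b : G, closure ({a, b} : Set G) ≠ ⊤) : False := by
  classical
  have hcomm : commutator G = ⊤ := (hsimple _ inferInstance).resolve_left fun h => hns (by
    refine ⟨1, ?_⟩
    rw [derivedSeries_one, h])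
  have hcen : Subgroup.center G = ⊥ := (hsimple _ inferInstance).resolve_right fun h => by
    have : commutator G = ⊥ := (commutator_eq_bot_iff_center_eq_top G).2 h
    refine hns ⟨1, ?_⟩
    rw [derivedSeries_one, this]
  have hne1 : (⊥ : Subgroup G) ≠ ⊤ := fun h => hns (by
    refine ⟨0, ?_⟩
    rw [derivedSeries_zero, h])
  obtain ⟨p, hp, hp5, hpG⟩ : ∃ p : ℕ, p.Prime ∧ 5 ≤ p ∧ p ∣ Nat.card G := by
    by_contra hall
    push Not at hall
    refine hns (Cfsg.Agent.S0144.result 2 3 ((Nat.card G).factorization 2) ((Nat.card G).factorization 3)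
      Nat.prime_two Nat.prime_three ?_)
    refine Nat.eq_of_factorization_eq Nat.card_pos.ne' (by positivity) fun q => ?_
    rw [Nat.factorization_mul (by positivity) (by positivity), Nat.Prime.factorization_pow Nat.prime_two,
      Nat.Prime.factorization_pow Nat.prime_three, Finsupp.add_apply]
    rcases eq_or_ne q 2 with rfl | h2
    · rw [Finsupp.single_eq_same, Finsupp.single_eq_of_ne (by omega), add_zero]
    rcases eq_or_ne q 3 with rfl | h3
    · rw [Finsupp.single_eq_same, Finsupp.single_eq_of_ne (by omega), zero_add]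
    rw [Finsupp.single_eq_of_ne h2, Finsupp.single_eq_of_ne h3, add_zero]
    by_contra hq
    have hqp := Nat.prime_of_mem_primeFactors (Nat.support_factorization _ ▸ Finsupp.mem_support_iff.2 hq)
    have hqd := Nat.dvd_of_factorization_pos hq
    have := hall q hqp
    have h2' := hqp.two_le
    have h4 : q ≠ 4 := fun e => by subst e; exact absurd hqp (by decide)
    rcases Nat.lt_or_ge q 5 with h | h
    · omega
    · exact (this h) hqd
  haveI := Fact.mk hp
  obtain ⟨P⟩ : Nonempty (Sylow p G) := inferInstance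
  by_cases hcyc : IsCyclic (P : Subgroup G)
  · -- `p`-solvable, hence not simple
    obtain ⟨n, H, h0, hl, -, hn, hs⟩ := (CfsgLib.Block.PairSolvable.isPSolvable_iff_pairs P hcyc).2
      fun x y _ _ => CfsgLib.PGroup.MaxPNilpotent.isPSolvable_of_solvable hp _ _ rfl
        (hsol _ (hpair x y))
    have key : ∀ i, H i = ⊥ := by
      intro i
      induction i using Fin.induction with
      | zero => exact h0
      | succ i ih =>
        refine (hsimple _ (hn _)).resolve_right fun htop => ?_
        have hidx : (H i.castSucc).relIndex (H i.succ) = Nat.card G := by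
          rw [ih, htop, relIndex_top_right, index_bot]
        rcases hs i with ⟨m, hm⟩ | hco
        · rw [hidx] at hm
          haveI := (IsPGroup.of_card (p := p) hm).isNilpotent
          exact hns inferInstance
        · rw [hidx] at hco
          exact hp.one_lt.ne' (Nat.eq_one_of_dvd_coprimes hco hpG dvd_rfl)
    exact hne1 ((key _).symm.trans hl)
  -- the non-cyclic case
  have hp2 : p ≠ 2 := by omega
  have hPp : IsPGroup p (P : Subgroup G) := P.2
  obtain ⟨E, hEc, hEcard, hEx, hEP⟩ := CfsgLib.Invol.exists_elementary_card_sq hPp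
    (fun hu => hcyc (CfsgLib.Coprime.isCyclic_of_unique_odd hp2 hPp hu))
  have hEea : Cfsg.IsElementaryAbelian p E := ⟨hEc, hEx⟩
  obtain ⟨A, hA⟩ := CfsgLib.Fusion.exists_isMaxEA p (P : Subgroup G)
  have hAcard : p ^ 2 ≤ Nat.card A := hEcard ▸ hA.2.2 E hEP hEea
  haveI : Nontrivial (P : Subgroup G) := by
    refine (Subgroup.nontrivial_iff_ne_bot _).2 fun h => hcyc ?_
    rw [h]; infer_instance
  haveI := hPp.center_nontrivial
  obtain ⟨c, hc⟩ := exists_prime_orderOf_dvd_card' (G := Subgroup.center (P : Subgroup G)) p (by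
    obtain ⟨k, hk, hk'⟩ := (hPp.to_subgroup (Subgroup.center _)).nontrivial_iff_card.1 inferInstance
    rw [hk']; exact dvd_pow_self p hk.ne')
  set x₀ : G := ((c : (P : Subgroup G)) : G) with hx₀
  have hord : orderOf x₀ = p := by rw [hx₀, Subgroup.orderOf_coe, Subgroup.orderOf_coe, hc]
  have hxP : x₀ ∈ (P : Subgroup G) := (c : (P : Subgroup G)).2
  have hxc : ∀ y ∈ (P : Subgroup G), x₀ * y = y * x₀ := fun y hy =>
    congrArg Subtype.val (mem_center_iff.1 c.2 ⟨y, hy⟩).symm
  have hxA : x₀ ∈ A := by
    set B := closure (insert x₀ (A : Set G))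
    have hBP : B ≤ (P : Subgroup G) := (closure_le _).2 (Set.insert_subset hxP hA.1)
    haveI := hA.2.1.1
    have hBc : IsMulCommutative B := by
      refine Subgroup.isMulCommutative_closure ?_
      rintro a (rfl | ha) b (rfl | hb)
      · rfl
      · exact hxc b (hA.1 hb)
      · exact (hxc a (hA.1 ha)).symm
      · exact congrArg Subtype.val (mul_comm' (⟨a, ha⟩ : A) ⟨b, hb⟩)
    have hBe : ∀ a ∈ B, a ^ p = 1 := by
      intro a ha
      induction ha using Subgroup.closure_induction with
      | mem a ha =>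
        rcases ha with rfl | ha
        · rw [← hord, pow_orderOf_eq_one]
        · exact hA.2.1.2 a ha
      | one => exact one_pow p
      | mul a b ha hb iha ihb =>
        have hcomm : Commute a b := congrArg Subtype.val (mul_comm' (⟨a, ha⟩ : B) ⟨b, hb⟩)
        rw [hcomm.mul_pow, iha, ihb, one_mul]
      | inv a _ iha => rw [inv_pow, iha, inv_one]
    have hAB : A ≤ B := fun a ha => subset_closure (Set.mem_insert_of_mem _ ha)
    rw [eq_of_le_of_card_ge hAB (hA.2.2 B hBP ⟨hBc, hBe⟩)]
    exact subset_closure (Set.mem_insert _ _)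
  set Z := Cfsg.centerThompsonOf p (P : Subgroup G) with hZ
  have hxZ : x₀ ∈ Z := ⟨CfsgLib.Fusion.le_thompsonSubgroupOf hA hxA, mem_centralizer_iff.2
    fun y hy => (hxc y (CfsgLib.Fusion.thompsonSubgroupOf_le _ hy)).symm⟩
  have hZc : ∀ a ∈ Z, ∀ b ∈ Z, a * b = b * a := fun a ha b hb =>
    mem_centralizer_iff.1 hb.2 a ha.1
  have hclosed : ∀ a : G, IsConj x₀ a → a ∈ (P : Subgroup G) → a ∈ Z := by
    intro a ha haP
    obtain ⟨g, rfl⟩ := isConj_iff.1 ha
    obtain ⟨n, hn, hne⟩ := Cfsg.Agent.S0118.result hp2 (no_slTwo hp5 hsol hsimple hcen) P {x₀}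
      (Set.singleton_subset_iff.2 hxP) g⁻¹ (by
        rw [Set.image_singleton, Set.singleton_subset_iff, inv_inv]; exact haP)
    have h1 := hne x₀ rfl
    rw [inv_inv] at h1
    rw [← h1]
    have := (Subgroup.mem_normalizer_iff.1 (Subgroup.inv_mem _ hn) x₀).1 hxZ
    rwa [inv_inv] at this
  have S : Setting G p x₀ :=
    { solv := hsol
      pair := hpair
      center := hcen
      five := hp5
      ord := hord
      comm := by
        intro R hR a ha b hb haK hbK
        obtain ⟨Q, hQ⟩ := hR.exists_le_sylow
        obtain ⟨g, rfl⟩ := MulAction.exists_smul_eq G P Q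
        have hmem : ∀ {y : G}, y ∈ ((g • P : Sylow p G) : Subgroup G) → g⁻¹ * y * g ∈ (P : Subgroup G) := by
          intro y hy
          rw [Sylow.coe_subgroup_smul, Subgroup.mem_pointwise_smul_iff_inv_smul_mem] at hy
          simpa [MulAut.smul_def] using hy
        have hcls : ∀ {y : G}, IsConj x₀ y → IsConj x₀ (g⁻¹ * y * g) := fun {y} hy =>
          hy.trans (isConj_iff.2 ⟨g⁻¹, by rw [inv_inv]⟩)
        have h := hZc _ (hclosed _ (hcls haK) (hmem (hQ ha))) _ (hclosed _ (hcls hbK) (hmem (hQ hb)))
        calc a * b = g * ((g⁻¹ * a * g) * (g⁻¹ * b * g)) * g⁻¹ := by group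
          _ = g * ((g⁻¹ * b * g) * (g⁻¹ * a * g)) * g⁻¹ := by rw [h]
          _ = b * a := by group
      rich := by
        by_contra hall
        push Not at hall
        have hle : A ≤ zpowers x₀ := fun e he => hall e (hA.2.1.2 e he) (hxc e (hA.1 he))
        have := (Subgroup.card_le_of_le hle).trans_eq (by rw [Nat.card_zpowers, hord])
        have h2 : p < p ^ 2 := by rw [pow_two]; exact lt_mul_self hp.one_lt
        omega }
  have hgen : closure {x | IsConj x₀ x} = ⊤ := by
    refine (hsimple _ ?_).resolve_left fun h => ?_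
    · exact by
        constructor
        intro a ha g
        induction ha using Subgroup.closure_induction with
        | mem a ha => exact subset_closure (S.cls_conj ha g)
        | one => simp [one_mem]
        | mul a b _ _ iha ihb =>
          rw [show g * (a * b) * g⁻¹ = (g * a * g⁻¹) * (g * b * g⁻¹) by group]
          exact mul_mem iha ihb
        | inv a _ iha =>
          rw [show g * a⁻¹ * g⁻¹ = (g * a * g⁻¹)⁻¹ by group]
          exact inv_mem iha
    · have h1 : x₀ ∈ closure {x | IsConj x₀ x} := subset_closure (IsConj.refl _)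
      rw [h, Subgroup.mem_bot] at h1
      rw [h1, orderOf_one] at hord
      exact hp.ne_one hord.symm
  exact S.false_of_perfect hgen hcomm

end CfsgLib.Solv.TwoGen
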