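import Cfsg.Agent.Lib.Solv.TwoGenerated.Core
import Mathlib.GroupTheory.Abelianization.Defs

/-!
# Congruence of conjugates is an equivalence relation, hence the group is not perfect

In the setting of `Core` the relation "congruent modulo the `p'`-core of the subgroup generated" is
transitive on the class of `x₀`; so the class is a single equivalence class and the exponent of `x₀`
occurring in the `p`-part of an element defines a homomorphism to the group of order `p`.
-/

set_option autoImplicit false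
set_option linter.style.haveILetI false
set_option linter.unusedSectionVars false

open Subgroup

namespace CfsgLib.Solv.TwoGen

universe u

variable {G : Type u} [Group G] [Finite G]

theorem mem_of_commute_coprime {H : Subgroup G} {e c : G} (hc : e * c = c * e)
    (hcop : (orderOf e).Coprime (orderOf c)) (h : e * c ∈ H) : e ∈ H ∧ c ∈ H := by
  have hC : Commute e c := hc
  have key : ∀ {a b : G}, Commute a b → (orderOf a).Coprime (orderOf b) → a * b ∈ H → a ∈ H := by
    intro a b hab hco hmem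
    obtain ⟨j, hj⟩ := exists_pow_eq_self_of_coprime hco.symm
    rw [← hj]
    refine pow_mem ?_ _
    have := H.pow_mem hmem (orderOf b)
    rwa [hab.mul_pow, pow_orderOf_eq_one b, mul_one] at this
  exact ⟨key hC hcop h, key hC.symm hcop.symm (by rwa [← hc])⟩

namespace Setting

variable {p : ℕ} [hp : Fact p.Prime] {x₀ : G} (S : Setting G p x₀)

include S

theorem centralizer_ne_top {e : G} (he : e ≠ 1) : centralizer ({e} : Set G) ≠ ⊤ := by
  intro h
  refine he ?_
  rw [← Subgroup.mem_bot, ← S.center, mem_center_iff]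
  intro g
  exact (mem_centralizer_singleton_iff.1 (h ▸ mem_top g : g ∈ centralizer ({e} : Set G)))

/-- A congruent conjugate centralized by a `p`-element. -/
theorem exists_fixed {x e : G} {k : ℕ} (hx : IsConj x₀ x) (he : e ^ p ^ k = 1)
    (hmod : x⁻¹ * (e * x * e⁻¹) ∈ core p (closure ({x, e} : Set G))) :
    ∃ f : G, IsConj x₀ f ∧ e * f = f * e ∧ f ∈ closure ({x, e} : Set G) ∧ Eqv p x f := by
  set H := closure ({x, e} : Set G)
  set O := core p H
  obtain ⟨hxH, heH⟩ := mem_pair x e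
  have hA : zpowers e ≤ normalizer (O : Set G) := zpowers_le.2 (le_normalizer_core H heH)
  have hcop : (Nat.card (zpowers e)).Coprime (Nat.card O) := by
    rw [Nat.card_zpowers]
    exact Nat.Coprime.coprime_dvd_left (orderOf_dvd_of_pow_eq_one he)
      (Nat.Coprime.pow_left k (core_card H).symm)
  have hkN : x ∈ normalizer (O : Set G) := le_normalizer_core H hxH
  -- the coset is invariant under the powers of `e`
  have hgen : e * x * e⁻¹ * x⁻¹ ∈ O := by
    have := core_conj hxH hmod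
    rwa [show x * (x⁻¹ * (e * x * e⁻¹)) * x⁻¹ = e * x * e⁻¹ * x⁻¹ by group] at this
  have hnat : ∀ n : ℕ, e ^ n * x * (e ^ n)⁻¹ * x⁻¹ ∈ O := by
    intro n
    induction n with
    | zero => simp
    | succ n ih =>
      have := mul_mem (core_conj heH ih) hgen
      rwa [show e * (e ^ n * x * (e ^ n)⁻¹ * x⁻¹) * e⁻¹ * (e * x * e⁻¹ * x⁻¹) =
        e ^ (n + 1) * x * (e ^ (n + 1))⁻¹ * x⁻¹ by rw [pow_succ' e n, mul_inv_rev]; group] at this
  have hfix : ∀ a ∈ zpowers e, a * x * a⁻¹ * x⁻¹ ∈ O := by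
    intro a ha
    rw [← (isOfFinOrder_of_finite e).mem_powers_iff_mem_zpowers] at ha
    obtain ⟨n, rfl⟩ := ha
    exact hnat n
  obtain ⟨n, hn, hv⟩ := CfsgLib.Coprime.exists_fixed_in_coset hA hcop
    (Or.inl (CfsgLib.Coprime.isSolvable_of_isMulCommutative inferInstance)) hkN hfix
  set v := x * n with hv'
  have hve : e * v = v * e := mem_centralizer_iff.1 hv e (mem_zpowers e)
  have hpowmod : ∀ j : ℕ, (x ^ j)⁻¹ * v ^ j ∈ O := by
    intro j
    induction j with
    | zero => simp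
    | succ j ih =>
      have h1 := core_conj (H.inv_mem hxH) ih
      rw [inv_inv] at h1
      have := mul_mem h1 hn
      rwa [show x⁻¹ * ((x ^ j)⁻¹ * v ^ j) * x * n = (x ^ (j + 1))⁻¹ * v ^ (j + 1) by
        rw [pow_succ x, pow_succ v, mul_inv_rev, hv']; group] at this
  -- the `p`-part of `v`
  obtain ⟨m, hm1, hm2⟩ := Nat.chineseRemainder ((core_card (p := p) H).symm) 1 0
  have hvp : v ^ p ∈ O := by
    have := hpowmod p
    rwa [S.cls_pow hx, inv_one, one_mul] at this
  have hfp : (v ^ m) ^ p = 1 := by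
    rw [← pow_mul, mul_comm, pow_mul]
    obtain ⟨d, hd⟩ := (Nat.modEq_zero_iff_dvd.1 hm2)
    rw [hd, pow_mul, show (v ^ p) ^ Nat.card O = 1 by
      refine orderOf_dvd_iff_pow_eq_one.1 ?_
      rw [← Subgroup.orderOf_mk (v ^ p) hvp]
      exact orderOf_dvd_natCard _, one_pow]
  have hfmod : x⁻¹ * v ^ m ∈ O := by
    have := hpowmod m
    rwa [show x ^ m = x by
      conv_rhs => rw [← pow_one x]
      exact pow_eq_pow_iff_modEq.2 (hm1.of_dvd (orderOf_dvd_of_pow_eq_one (S.cls_pow hx)))] at this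
  have hfH : v ^ m ∈ H := pow_mem (mul_mem hxH (core_le _ hn)) m
  obtain ⟨o, -, hoe⟩ := conj_of_mod (k := 1) hxH (S.cls_pow hx) (by rw [pow_one]; exact hfp) hfmod
  refine ⟨v ^ m, hoe ▸ S.cls_conj hx o, ?_, hfH, ?_⟩
  · exact (show Commute e v from hve).pow_right m
  · exact inf_core_le (pair_le hxH hfH)
      ⟨mul_mem (Subgroup.inv_mem _ (mem_pair x (v ^ m)).1) (mem_pair x (v ^ m)).2, hfmod⟩

/-- If `x ≡ y`, `x ≡ e` and `e` commutes with `y`, then `e = y`. -/
theorem eq_of_eqv_of_commute {x y e : G} (hx : IsConj x₀ x) (hy : IsConj x₀ y) (he : IsConj x₀ e)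
    (hxy : Eqv p x y) (hxe : Eqv p x e) (hc : e * y = y * e) : e = y := by
  obtain ⟨H, hH, hyH, hxH, heH⟩ := S.exists_proper hy hx (S.eqv_symm hxy) hc
  exact S.eq_of_commute he hy hc
    (S.eqv_trans_in hH he heH hx hxH hy hyH (S.eqv_symm hxe) hxy)

/-- Congruence to `x` is constant on congruent conjugates centralized by a common `p`-element. -/
theorem eqv_move {x e w w' : G} {k : ℕ} (hx : IsConj x₀ x) (hw : IsConj x₀ w) (hw' : IsConj x₀ w')
    (he : e ^ p ^ k = 1) (he1 : e ≠ 1) (hew : e * w = w * e) (hew' : e * w' = w' * e)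
    (hxw : Eqv p x w) (hww : Eqv p w w') : Eqv p x w' := by
  obtain ⟨H1, hH1, hwH, hxH, heH⟩ := S.exists_proper hw hx (S.eqv_symm hxw) hew
  have hH3 : closure ({x, e} : Set G) ≤ H1 := pair_le hxH heH
  have hexH : e * x * e⁻¹ ∈ H1 := mul_mem (mul_mem heH hxH) (inv_mem heH)
  have hex : x⁻¹ * (e * x * e⁻¹) ∈ core p (closure ({x, e} : Set G)) := by
    have h1 := (S.eqv_iff hH1 hx hxH hw hwH).1 hxw
    have h2 := core_conj heH ((core p H1).inv_mem h1)
    have h3 : x⁻¹ * (e * x * e⁻¹) ∈ core p H1 := by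
      have := mul_mem h1 h2
      rwa [show x⁻¹ * w * (e * (x⁻¹ * w)⁻¹ * e⁻¹) = x⁻¹ * (e * x * e⁻¹) by
        have hwe : e * w⁻¹ = w⁻¹ * e := ((show Commute e w from hew).inv_right)
        rw [mul_inv_rev, inv_inv, ← mul_assoc e w⁻¹, hwe]; group] at this
    obtain ⟨hx3, he3⟩ := mem_pair x e
    exact inf_core_le hH3 ⟨mul_mem (Subgroup.inv_mem _ hx3) (mul_mem (mul_mem he3 hx3) (Subgroup.inv_mem _ he3)), h3⟩
  obtain ⟨f, hf, hef, hfH, hxf⟩ := S.exists_fixed hx he hex
  have hfw : Eqv p f w := S.eqv_trans_in hH1 hf (hH3 hfH) hx hxH hw hwH (S.eqv_symm hxf) hxw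
  set C := centralizer ({e} : Set G) with hC
  have hmemC : ∀ {a : G}, e * a = a * e → a ∈ C := fun h =>
    mem_centralizer_singleton_iff.2 h.symm
  have hfw' : Eqv p f w' := S.eqv_trans_in (S.centralizer_ne_top he1) hf (hmemC hef) hw (hmemC hew)
    hw' (hmemC hew') hfw hww
  obtain ⟨c, hc, hce⟩ := conj_of_mod (k := 1) (mem_pair f w').1 (S.cls_pow hf)
    (by rw [pow_one]; exact S.cls_pow hw') hfw'
  have hcC : c ∈ C := pair_le (hmemC hef) (hmemC hew') (core_le _ hc)
  have hec : e * c = c * e := (mem_centralizer_singleton_iff.1 hcC).symm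
  have hcop : (orderOf e).Coprime (orderOf c) := by
    refine Nat.Coprime.coprime_dvd_left (orderOf_dvd_of_pow_eq_one he) (Nat.Coprime.pow_left k ?_)
    refine ((core_card (p := p) (closure ({f, w'} : Set G))).coprime_dvd_left ?_).symm
    rw [← Subgroup.orderOf_mk c hc]
    exact orderOf_dvd_natCard _
  set H := closure ({x, e * c} : Set G)
  obtain ⟨heH', hcH⟩ := mem_of_commute_coprime hec hcop (mem_pair x (e * c)).2
  have hfH' : f ∈ H := pair_le (mem_pair x (e * c)).1 heH' hfH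
  have hwH' : w' ∈ H := hce ▸ mul_mem (mul_mem hcH hfH') (inv_mem hcH)
  exact S.eqv_trans_in (S.pair _ _) hx (mem_pair x (e * c)).1 hf hfH' hw' hwH' hxf hfw'

/-- A second element of order `p` in the centralizer of a conjugate. -/
theorem exists_partner {y : G} (hy : IsConj x₀ y) :
    ∃ e : G, e ^ p = 1 ∧ e * y = y * e ∧ e ∉ zpowers y := by
  obtain ⟨c, rfl⟩ := isConj_iff.1 hy
  obtain ⟨e, he, hec, hen⟩ := S.rich
  refine ⟨c * e * c⁻¹, by rw [conj_pow, he]; group, ?_, fun h => hen ?_⟩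
  · calc c * e * c⁻¹ * (c * x₀ * c⁻¹) = c * (e * x₀) * c⁻¹ := by group
      _ = c * (x₀ * e) * c⁻¹ := by rw [hec]
      _ = _ := by group
  · obtain ⟨i, hi⟩ := mem_zpowers_iff.1 h
    refine mem_zpowers_iff.2 ⟨i, ?_⟩
    rw [conj_zpow] at hi
    simpa using hi

/-- The heart of transitivity: a common neighbour forces congruence. -/
theorem eqv_trans {x y z : G} (hx : IsConj x₀ x) (hy : IsConj x₀ y) (hz : IsConj x₀ z)
    (hxy : Eqv p x y) (hxz : Eqv p x z) : Eqv p y z := by
  obtain ⟨hyL, hzL⟩ := mem_pair y z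
  have hL : closure ({y, z} : Set G) ≠ ⊤ := S.pair y z
  have h1 : z⁻¹ * (y * z * y⁻¹) ∈ core p (closure ({z, y} : Set G)) := by
    have hL' : closure ({z, y} : Set G) ≠ ⊤ := S.pair z y
    have := (S.eqv_iff hL' hz (mem_pair z y).1 (S.cls_conj hz y) (mul_mem (mul_mem (mem_pair z y).2
      (mem_pair z y).1) (inv_mem (mem_pair z y).2))).1 (S.eqv_conj_self hz hy)
    exact this
  obtain ⟨z', hz', hyz', hz'L, hzz'⟩ := S.exists_fixed (k := 1) hz (by rw [pow_one]; exact S.cls_pow hy) h1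
  rw [Set.pair_comm] at hz'L
  by_cases hne : z' = y
  · exact S.eqv_symm (hne ▸ hzz')
  exfalso
  obtain ⟨c, hcL0, hce⟩ := conj_of_mod (k := 1) (mem_pair z' z).1 (S.cls_pow hz')
    (by rw [pow_one]; exact S.cls_pow hz) (S.eqv_symm hzz')
  have hcL : c ∈ closure ({y, z} : Set G) := pair_le hz'L hzL (core_le _ hcL0)
  -- a second element centralizing `y` and `z'` in a proper subgroup containing `z`
  obtain ⟨e, H, hH, hep, hey, hez, hen, hyH, hzH, hz'H, heH⟩ : ∃ (e : G) (H : Subgroup G), H ≠ ⊤ ∧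
      e ^ p = 1 ∧ e * y = y * e ∧ e * z' = z' * e ∧ e ∉ zpowers y ∧ y ∈ H ∧ z ∈ H ∧ z' ∈ H ∧ e ∈ H := by
    by_cases hzy : z' ∈ zpowers y
    · obtain ⟨e, hep, hey, hen⟩ := S.exists_partner hy
      obtain ⟨i, hi⟩ := mem_zpowers_iff.1 hzy
      set g := c * e with hg
      obtain ⟨hyH, hgH⟩ := mem_pair y g
      have hyc : c * y * c⁻¹ ∈ closure ({y, g} : Set G) := by
        have := mul_mem (mul_mem hgH hyH) (inv_mem hgH)
        rwa [show g * y * g⁻¹ = c * y * c⁻¹ by
          rw [hg, mul_inv_rev, mul_assoc c e y, hey]; group] at this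
      have hzH : z ∈ closure ({y, g} : Set G) := by
        have := zpow_mem hyc i
        rwa [conj_zpow, hi, hce] at this
      have hcH : c ∈ closure ({y, g} : Set G) := pair_le hyH hzH hcL
      refine ⟨e, _, S.pair y g, hep, hey, ?_, hen, hyH, hzH, hi ▸ zpow_mem hyH i, ?_⟩
      · rw [← hi]; exact (show Commute e y from hey).zpow_right i
      · have := mul_mem (inv_mem hcH) hgH
        rwa [hg, inv_mul_cancel_left] at this
    · exact ⟨z', _, hL, S.cls_pow hz', hyz'.symm, rfl, hzy, hyL, hzL, hz'L, hz'L⟩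
  -- the elementary group generated by `y` and `e`
  set E := closure ({y, e} : Set G) with hE
  have hEz : ∀ a ∈ E, a * z' = z' * a := by
    intro a ha
    have : E ≤ centralizer ({z'} : Set G) := pair_le (mem_centralizer_singleton_iff.2 hyz')
      (mem_centralizer_singleton_iff.2 hez)
    exact mem_centralizer_singleton_iff.1 (this ha)
  haveI hEc : IsMulCommutative E := by
    refine Subgroup.isMulCommutative_closure ?_
    rintro a (rfl | ha) b (rfl | hb)
    · rfl
    · rw [Set.mem_singleton_iff.1 hb]; exact hey.symm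
    · rw [Set.mem_singleton_iff.1 ha]; exact hey
    · rw [Set.mem_singleton_iff.1 ha, Set.mem_singleton_iff.1 hb]
  have hEp : ∀ a ∈ E, a ^ p = 1 := by
    intro a ha
    induction ha using Subgroup.closure_induction with
    | mem a ha =>
      rcases ha with rfl | ha
      · exact S.cls_pow hy
      · rw [Set.mem_singleton_iff.1 ha]; exact hep
    | one => exact one_pow p
    | mul a b ha hb iha ihb =>
      have hcomm : Commute a b := congrArg Subtype.val (mul_comm' (⟨a, ha⟩ : E) ⟨b, hb⟩)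
      rw [hcomm.mul_pow, iha, ihb, one_mul]
    | inv a _ iha => rw [inv_pow, iha, inv_one]
  have hy1 : y ≠ 1 := by
    rintro rfl
    obtain ⟨d, hd⟩ := isConj_iff.1 hy
    have h2 := S.ord
    rw [conj_eq_one_iff.1 hd, orderOf_one] at h2
    exact hp.out.ne_one h2.symm
  have hyo : orderOf y = p := orderOf_eq_prime (S.cls_pow hy) hy1
  have hEnc : ¬ IsCyclic E := by
    intro hcyc
    obtain ⟨g, hg⟩ := hcyc.exists_generator
    have hgp : orderOf g ∣ p := orderOf_dvd_of_pow_eq_one (Subtype.ext (hEp g g.2))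
    have hcardE : Nat.card E ∣ p := by rwa [← orderOf_eq_card_of_forall_mem_zpowers hg]
    have hEy : zpowers y = E := eq_of_le_of_card_ge (zpowers_le.2 (mem_pair y e).1) (by
      rw [Nat.card_zpowers, hyo]; exact Nat.le_of_dvd hp.out.pos hcardE)
    exact hen (hEy ▸ (mem_pair y e).2)
  have hEcard : (Nat.card E).Coprime (Nat.card (core p H)) := by
    have hPE : IsPGroup p E := fun a => ⟨1, Subtype.ext (by rw [pow_one]; exact hEp a a.2)⟩
    obtain ⟨n, hn⟩ := IsPGroup.iff_card.1 hPE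
    rw [hn]
    exact Nat.Coprime.pow_left n (core_card H).symm
  have hEH : E ≤ H := pair_le hyH heH
  obtain ⟨o, ho, hoe⟩ := conj_of_mod (k := 1) hz'H (S.cls_pow hz') (by rw [pow_one]; exact S.cls_pow hz)
    ((S.eqv_iff hH hz' hz'H hz hzH).1 (S.eqv_symm hzz'))
  -- right translations preserving congruence to `x`
  let W : Subgroup G :=
    { carrier := {r | r ∈ core p H ∧ ∀ s ∈ core p H,
        (Eqv p x ((s * r) * z' * (s * r)⁻¹) ↔ Eqv p x (s * z' * s⁻¹))}
      one_mem' := ⟨one_mem _, fun s _ => by rw [mul_one]⟩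
      mul_mem' := by
        rintro a b ⟨ha, ha'⟩ ⟨hb, hb'⟩
        refine ⟨mul_mem ha hb, fun s hs => ?_⟩
        rw [← mul_assoc]
        exact (hb' _ (mul_mem hs ha)).trans (ha' s hs)
      inv_mem' := by
        rintro a ⟨ha, ha'⟩
        refine ⟨Subgroup.inv_mem _ ha, fun s hs => ?_⟩
        have := ha' (s * a⁻¹) (mul_mem hs (Subgroup.inv_mem _ ha))
        rw [inv_mul_cancel_right] at this
        exact this.symm }
  have hOW : core p H ≤ W := by
    refine CfsgLib.Coprime.le_of_centralizers_le hEnc (hEH.trans (le_normalizer_core H)) hEcard ?_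
    rintro a ha ha1 r ⟨hr, hra⟩
    refine ⟨hr, fun s hs => ?_⟩
    have hra' : r * a = a * r := mem_centralizer_singleton_iff.1 hra
    have ht : (s * a * s⁻¹) ^ p ^ 1 = 1 := by rw [pow_one, conj_pow, hEp a ha]; group
    have ht1 : s * a * s⁻¹ ≠ 1 := fun h => ha1 (conj_eq_one_iff.1 h)
    have hcz : Commute a (r * z' * r⁻¹) := by
      have h1 : Commute a r := hra'.symm
      exact (h1.mul_right (show Commute a z' from hEz a ha)).mul_right h1.inv_right
    have hw1 : s * a * s⁻¹ * (s * z' * s⁻¹) = s * z' * s⁻¹ * (s * a * s⁻¹) := by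
      rw [show s * a * s⁻¹ * (s * z' * s⁻¹) = s * (a * z') * s⁻¹ by group, hEz a ha]; group
    have hw2 : s * a * s⁻¹ * ((s * r) * z' * (s * r)⁻¹) = (s * r) * z' * (s * r)⁻¹ * (s * a * s⁻¹) := by
      rw [show s * a * s⁻¹ * ((s * r) * z' * (s * r)⁻¹) = s * (a * (r * z' * r⁻¹)) * s⁻¹ by group, hcz.eq]; group
    have hcls : ∀ {g : G}, g ∈ core p H → IsConj x₀ (g * z' * g⁻¹) ∧ g * z' * g⁻¹ ∈ H :=
      fun {g} hg => ⟨S.cls_conj hz' g, mul_mem (mul_mem (core_le _ hg) hz'H) (inv_mem (core_le _ hg))⟩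
    have hmod : ∀ {g : G}, g ∈ core p H → Eqv p (g * z' * g⁻¹) z' := by
      intro g hg
      rw [S.eqv_iff hH (hcls hg).1 (hcls hg).2 hz' hz'H]
      have := mul_mem hg (core_conj (H.inv_mem hz'H) ((core p H).inv_mem hg))
      rwa [show g * (z'⁻¹ * g⁻¹ * z'⁻¹⁻¹) = (g * z' * g⁻¹)⁻¹ * z' by group] at this
    have hsr := mul_mem hs hr
    have hww : Eqv p (s * z' * s⁻¹) ((s * r) * z' * (s * r)⁻¹) :=
      S.eqv_trans_in hH (hcls hs).1 (hcls hs).2 hz' hz'H (hcls hsr).1 (hcls hsr).2 (hmod hs)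
        (S.eqv_symm (hmod hsr))
    exact ⟨fun h => S.eqv_move hx (hcls hsr).1 (hcls hs).1 ht ht1 hw2 hw1 h (S.eqv_symm hww),
      fun h => S.eqv_move hx (hcls hs).1 (hcls hsr).1 ht ht1 hw1 hw2 h hww⟩
  have hxz' : Eqv p x z' := by
    have h2 := (hOW ho).2 1 (one_mem _)
    simp only [one_mul, inv_one, mul_one] at h2
    exact h2.1 (hoe.symm ▸ hxz)
  exact hne (S.eq_of_eqv_of_commute hx hy hz' hxy hxz' hyz'.symm)

end Setting

end CfsgLib.Solv.TwoGen
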